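import Groth.Agent.NonAbH1.K950.ParVal

/-!
# The parabolic subgroup attached to a point over the fraction field of a valuation ring
-/

set_option autoImplicit false
set_option linter.unusedSectionVars false
universe u

open CategoryTheory MonoidalCategory CartesianMonoidalCategory MonObj GrpObj AlgebraicGeometry Limits

namespace K950.ParAd

open Groth.Agent.Sga3B Cell PinMod DSPts GaPts K929.LieDict K929.Act K929.Act.TAct K929.ChartUni K929.ActSub RootCoact
open Groth.Agent.K547.QtTact Groth.Agent.Sga3B.Parab Groth.Agent.Sga3B.Parab.OrbM156 K950.ParVal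
open Groth.Agent.RedSub.H660.Iwasawa

section gen

variable {W : Type u} [CommRing W] {G : Over (Spec (CommRingCat.of W))} [GrpObj G]

lemma tMap_tMap {S : Scheme.{u}} {R : Type u} [CommRing R] (s : Spec (CommRingCat.of R) ⟶ S) {B C E : Type u} [CommRing B]
    [Algebra R B] [CommRing C] [Algebra R C] [CommRing E] [Algebra R E] (φ : B →ₐ[R] C) (ψ : C →ₐ[R] E) :
    tMap s ψ ≫ tMap s φ = tMap s (ψ.comp φ) := by
  ext1
  change Spec.map _ ≫ Spec.map _ = Spec.map _
  rw [← Spec.map_comp, ← CommRingCat.ofHom_comp]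
  rfl

/-- `P ⊆ G` is adapted to the point `h ∈ G(K)`: on flat algebras `P ⊆ G ∩ h G h⁻¹`, and modulo the maximal ideal
`G ∩ h G h⁻¹` is contained in `P`. -/
structure Adapted [IsLocalRing W] {K : Type u} [Field K] [Algebra W K] {P : Over (Spec (CommRingCat.of W))} (p : P ⟶ G)
    (h : tB (𝟙 (Spec (CommRingCat.of W))) K ⟶ G) : Prop where
  conj : ∀ (B B' : Type u) [CommRing B] [Algebra W B] [CommRing B'] [Algebra W B'] [Algebra K B']
    [IsScalarTower W K B'] (φ : B →ₐ[W] B'), Function.Injective φ → ∀ x : tB (𝟙 (Spec (CommRingCat.of W))) B ⟶ P,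
      ∃ g' : tB (𝟙 (Spec (CommRingCat.of W))) B ⟶ G, tMap (𝟙 _) φ ≫ g' =
        (tMap (𝟙 _) (IsScalarTower.toAlgHom W K B') ≫ h)⁻¹ * (tMap (𝟙 _) φ ≫ x ≫ p) *
          (tMap (𝟙 _) (IsScalarTower.toAlgHom W K B') ≫ h)
  lift : ∀ (B B' C : Type u) [CommRing B] [Algebra W B] [CommRing B'] [Algebra W B'] [Algebra K B']
    [IsScalarTower W K B'] [CommRing C] [Algebra W C] (φ : B →ₐ[W] B'), Function.Injective φ → ∀ ψ : B →ₐ[W] C,
      (∀ w ∈ IsLocalRing.maximalIdeal W, algebraMap W C w = 0) → ∀ g g' : tB (𝟙 (Spec (CommRingCat.of W))) B ⟶ G,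
        tMap (𝟙 _) φ ≫ g' =
          (tMap (𝟙 _) (IsScalarTower.toAlgHom W K B') ≫ h)⁻¹ * (tMap (𝟙 _) φ ≫ g) *
            (tMap (𝟙 _) (IsScalarTower.toAlgHom W K B') ≫ h) →
        ∃ x : tB (𝟙 (Spec (CommRingCat.of W))) C ⟶ P, x ≫ p = tMap (𝟙 _) ψ ≫ g

/-- a `W`-point as a section -/
noncomputable def sec (k : tB (𝟙 (Spec (CommRingCat.of W))) W ⟶ G) : 𝟙_ (Over (Spec (CommRingCat.of W))) ⟶ G :=
  (Over.homMk (𝟙 (Spec (CommRingCat.of W))) (by
    change 𝟙 _ ≫ Spec.map (CommRingCat.ofHom (algebraMap W W)) ≫ 𝟙 _ = 𝟙 _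
    rw [Category.id_comp, Category.comp_id]
    exact Spec.map_id _) : 𝟙_ (Over (Spec (CommRingCat.of W))) ⟶ tB (𝟙 (Spec (CommRingCat.of W))) W) ≫ k

lemma toUnit_sec (k : tB (𝟙 (Spec (CommRingCat.of W))) W ⟶ G) (B : Type u) [CommRing B] [Algebra W B] :
    toUnit (tB (𝟙 (Spec (CommRingCat.of W))) B) ≫ sec k = tMap (𝟙 _) (Algebra.ofId W B) ≫ k := by
  unfold sec
  rw [← Category.assoc]
  congr 1

end gen

section main

variable {W : Type u} [CommRing W] [IsDomain W] [ValuationRing W] {G : Over (Spec (CommRingCat.of W))} [GrpObj G]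
  {K : Type u} [Field K] [Algebra W K] [IsFractionRing W K]

lemma grp1 {Γ : Type*} [Group Γ] (a τ b Y : Γ) :
    b⁻¹ * (τ⁻¹ * Y * τ) * b = (a * τ * b)⁻¹ * (a * Y * a⁻¹) * (a * τ * b) := by group

lemma grp2 {Γ : Type*} [Group Γ] (a τ b g g' : Γ) (h : g' = (a * τ * b)⁻¹ * g * (a * τ * b)) :
    b * g' * b⁻¹ = τ⁻¹ * (a⁻¹ * g * a) * τ := by
  rw [h]; group

/-- the points of `T` with all the values of the characters units -/
lemma exists_TPt_of_units {M : Type} [AddCommGroup M] (t : TPt M K)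
    (h : ∀ m, ValuationRing.valuation W K (t m : K) = 1) :
    ∃ t₀ : TPt M W, TPt.map (IsScalarTower.toAlgHom W W K) t₀ = t := by
  let j : Wˣ →* Kˣ := Units.map (algebraMap W K : W →* K)
  have hj : Function.Injective j := Units.map_injective (IsFractionRing.injective W K)
  have hr : ∀ m, t m ∈ j.range := by
    intro m
    obtain ⟨w, hw⟩ := (ValuationRing.mem_integer_iff W K _).1 (h m).le
    obtain ⟨w', hw'⟩ := (ValuationRing.mem_integer_iff W K ((t m)⁻¹ : Kˣ)).1 (by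
      rw [Valuation.mem_integer_iff, Units.val_inv_eq_inv_val, map_inv₀, h m, inv_one])
    refine ⟨⟨w, w', ?_, ?_⟩, Units.ext hw⟩
    · apply IsFractionRing.injective W K
      rw [_root_.map_mul, hw, hw', _root_.map_one, Units.mul_inv]
    · apply IsFractionRing.injective W K
      rw [_root_.map_mul, hw, hw', _root_.map_one, Units.inv_mul]
  refine ⟨(MonoidHom.ofInjective hj).symm.toMonoidHom.comp (t.codRestrict j.range hr), MonoidHom.ext fun m => ?_⟩
  exact congrArg Subtype.val ((MonoidHom.ofInjective hj).apply_symm_apply (t.codRestrict j.range hr m))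

omit [IsDomain W] [ValuationRing W] [IsFractionRing W K] in
lemma t_add {M : Type} [AddCommGroup M] (t : TPt M K) (m n : M) :
    t (Multiplicative.ofAdd (m + n)) = t (Multiplicative.ofAdd m) * t (Multiplicative.ofAdd n) :=
  _root_.map_mul t _ _

/-- the valuation of a torus point, additively -/
noncomputable def fv {M : Type} [AddCommGroup M] (t : TPt M K) : M →+ Additive (ValuationRing.ValueGroup W K)ˣ :=
  MonoidHom.toAdditiveRight ((Units.map ((ValuationRing.valuation W K).toMonoidWithZeroHom :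
    K →* ValuationRing.ValueGroup W K)).comp t)

lemma fv_eq_zero_iff {M : Type} [AddCommGroup M] (t : TPt M K) (m : M) :
    fv (W := W) t m = 0 ↔ ValuationRing.valuation W K (t (Multiplicative.ofAdd m) : K) = 1 := by
  exact (Units.val_eq_one (a := (fv (W := W) t m).toMul)).symm

lemma fv_nonneg_iff {M : Type} [AddCommGroup M] (t : TPt M K) (m : M) :
    0 ≤ fv (W := W) t m ↔ 1 ≤ ValuationRing.valuation W K (t (Multiplicative.ofAdd m) : K) := Iff.rfl

/-- In the semisimple case a torus point whose values at the roots have valuation `≥ 1` is integral. -/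
theorem fv_eq_zero_of_roots (D : Red.SplitRed G) (hss : Red.IsSemisimple G) (t : TPt D.M K)
    (h : ∀ a : D.idx, Multiplicative.ofAdd (D.P.root a) ∈ Tv (W := W) t) (m : D.M) : fv (W := W) t m = 0 := by
  have h0 : ∀ a, 0 ≤ fv (W := W) t (D.P.root a) := by
    intro a
    rw [fv_nonneg_iff]
    exact (mem_Tv_iff t).1 (h a)
  have h1 : ∀ a, fv (W := W) t (D.P.root a) = 0 := by
    intro a
    refine le_antisymm ?_ (h0 a)
    have h2 := h0 (D.P.reflectionPerm a a)
    rw [D.P.root_reflectionPerm, RootPairing.reflection_apply_self, _root_.map_neg] at h2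
    exact neg_nonneg.1 h2
  have h2 : ∀ x ∈ Submodule.span ℤ (Set.range D.P.root), fv (W := W) t x = 0 := by
    intro x hx
    refine Submodule.span_induction (p := fun x _ => fv (W := W) t x = 0) ?_ (_root_.map_zero _) ?_ ?_ hx
    · rintro _ ⟨a, rfl⟩
      exact h1 a
    · intro x y _ _ hx hy
      rw [_root_.map_add, hx, hy, add_zero]
    · intro c x _ hx
      rw [map_zsmul, hx, smul_zero]
  have hne : Nonempty (Spec (CommRingCat.of W)) := ⟨IsLocalRing.closedPoint W⟩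
  obtain ⟨n, hn, hm⟩ := BorSpan613.exists_zsmul_mem_span D hss (fun X t ht h => by
    have := (Groth.Agent.S2962.result D X (t ≫ D.i)).mpr ⟨t, rfl, ht⟩ X (𝟙 X) h
    rwa [Category.id_comp] at this) m
  have h3 := h2 _ hm
  rw [map_zsmul] at h3
  exact (smul_eq_zero_iff_right hn).1 h3

theorem exists_adapted [Infinite (IsLocalRing.ResidueField W)] (D : Red.SplitRed G)
    (h : tB (𝟙 (Spec (CommRingCat.of W))) K ⟶ G) :
    ∃ (P : Over (Spec (CommRingCat.of W))) (_ : GrpObj P) (p : P ⟶ G), Red.IsParabolic p ∧ Adapted p h ∧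
      (Red.IsSemisimple G →
        (∀ g : tB (𝟙 (Spec (CommRingCat.of W))) (IsLocalRing.ResidueField W) ⟶ G,
          ∃ x : tB (𝟙 (Spec (CommRingCat.of W))) (IsLocalRing.ResidueField W) ⟶ P, x ≫ p = g) →
        ∃ h' : tB (𝟙 (Spec (CommRingCat.of W))) W ⟶ G,
          tMap (𝟙 _) (IsScalarTower.toAlgHom W W K) ≫ h' = h) := by
  have haff : IsAffineHom G.hom := D.reductive.1
  have hsm : Smooth G.hom := D.reductive.2.1
  obtain ⟨k₁, k₂, t, hh⟩ := K209.CartanSch.cartan_split D (𝟙 _) (V := W) (K := K) h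
  obtain ⟨c⟩ := exists_chart G (𝟙 (Spec (CommRingCat.of W)))
  have hMfg : AddGroup.FG D.M := Module.Finite.iff_addGroup_fg.1 inferInstance
  let J := Chart.j D
  obtain ⟨ν, hν⟩ := exists_nu J (Tv (W := W) t) (exists_sign t)
  obtain ⟨P, _, p, hp, hpar⟩ := Groth.Agent.K547.DynTools.exists_isDynP (lamN J ν) D.reductive
  -- the `B'`-points
  have hinc : ∀ (B' : Type u) [CommRing B'] [Algebra W B'] [Algebra K B'] [IsScalarTower W K B'],
      tMap (𝟙 _) (IsScalarTower.toAlgHom W K B') ≫ h = (tMap (𝟙 _) (Algebra.ofId W B') ≫ k₁) *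
        c.pts B' (tiPt c J B' (tp W B' t)) * (tMap (𝟙 _) (Algebra.ofId W B') ≫ k₂) := by
    intro B' _ _ _ _
    have h1 : (IsScalarTower.toAlgHom W K B').comp (inc W W K) = Algebra.ofId W B' := by
      ext
    have h2 : c.pts B' (tiPt c J B' (tp W B' t)) =
        tMap (𝟙 _) (IsScalarTower.toAlgHom W K B') ≫ dsEquiv (tB (𝟙 _) K) D.M (chΓ (𝟙 _) t) ≫ J := by
      rw [pts_tiPt, ← tMap_dsEquiv, Category.assoc]
    rw [hh, MonObj.comp_mul, MonObj.comp_mul, ← Category.assoc, ← Category.assoc (tMap (𝟙 _) _) (tMap (𝟙 _) _),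
      tMap_tMap, h1, h2]
  have hofId : ∀ {B B' : Type u} [CommRing B] [Algebra W B] [CommRing B'] [Algebra W B'] (φ : B →ₐ[W] B')
      (k : tB (𝟙 (Spec (CommRingCat.of W))) W ⟶ G),
      tMap (𝟙 _) φ ≫ tMap (𝟙 _) (Algebra.ofId W B) ≫ k = tMap (𝟙 _) (Algebra.ofId W B') ≫ k := by
    intro B B' _ _ _ _ φ k
    rw [← Category.assoc, tMap_tMap]
    congr 2
    ext
  have hconj : ∀ (B : Type u) [CommRing B] [Algebra W B] (x : tB (𝟙 (Spec (CommRingCat.of W))) B ⟶ P),
      x ≫ AGF.conjBy (sec k₁) p = (tMap (𝟙 _) (Algebra.ofId W B) ≫ k₁) * (x ≫ p) *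
        (tMap (𝟙 _) (Algebra.ofId W B) ≫ k₁)⁻¹ := by
    intro B _ _ x
    rw [K545.ConjTools.comp_conjBy, toUnit_sec]
  have hmem : ∀ (B : Type u) [CommRing B] [Algebra W B] (g : Pt W c.A B),
      (∃ x : tB (𝟙 (Spec (CommRingCat.of W))) B ⟶ P, x ≫ p = c.pts B g) ↔ Kills c J (Tv (W := W) t) g := by
    intro B _ _ g
    rw [hp.iff_ptP, ← hν, ptT_iff_kills]
  refine ⟨P, inferInstance, AGF.conjBy (sec k₁) p, K545.ConjTools.isParabolic_conjBy hpar _, ⟨?_, ?_⟩, ?_⟩
  · intro B B' _ _ _ _ _ _ φ hφ x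
    obtain ⟨g₀, hg₀⟩ := (c.pts B).surjective (x ≫ p)
    obtain ⟨g₁, hg₁⟩ := exists_conj c J φ hφ (Tv (W := W) t) t (fun m hm => hm) g₀ ((hmem B g₀).1 ⟨x, hg₀.symm⟩)
    refine ⟨(tMap (𝟙 _) (Algebra.ofId W B) ≫ k₂)⁻¹ * c.pts B g₁ * (tMap (𝟙 _) (Algebra.ofId W B) ≫ k₂), ?_⟩
    rw [hinc, hconj, ← hg₀]
    simp only [MonObj.comp_mul, GrpObj.comp_inv, hofId, c.pts_nat, hg₁, _root_.map_mul, _root_.map_inv]
    exact grp1 _ _ _ _
  · intro B B' C _ _ _ _ _ _ _ _ φ hφ ψ hψ g g' hgg'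
    obtain ⟨y, hy⟩ := (c.pts B).surjective
      ((tMap (𝟙 _) (Algebra.ofId W B) ≫ k₁)⁻¹ * g * (tMap (𝟙 _) (Algebra.ofId W B) ≫ k₁))
    obtain ⟨y', hy'⟩ := (c.pts B).surjective
      ((tMap (𝟙 _) (Algebra.ofId W B) ≫ k₂) * g' * (tMap (𝟙 _) (Algebra.ofId W B) ≫ k₂)⁻¹)
    have h1 : Pt.map φ y' = (tiPt c J B' (tp W B' t))⁻¹ * Pt.map φ y * tiPt c J B' (tp W B' t) := by
      apply (c.pts B').injective
      rw [_root_.map_mul, _root_.map_mul, _root_.map_inv, ← c.pts_nat, ← c.pts_nat, hy, hy']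
      simp only [MonObj.comp_mul, GrpObj.comp_inv, hofId]
      rw [hinc] at hgg'
      exact grp2 _ _ _ _ _ hgg'
    have h2 := kills_of_conj c J φ hφ (Tv (W := W) t) t ψ (fun m hm => by
      obtain ⟨w, hw, hw'⟩ := exists_of_notMem_Tv t hm
      exact ⟨w, hψ w hw, hw'⟩) y y' h1
    obtain ⟨x, hx⟩ := (hmem C _).2 h2
    refine ⟨x, ?_⟩
    rw [hconj, hx, ← c.pts_nat, hy]
    simp only [MonObj.comp_mul, GrpObj.comp_inv, hofId]
    group
  · intro hss hall
    have hall' : ∀ g : tB (𝟙 (Spec (CommRingCat.of W))) (IsLocalRing.ResidueField W) ⟶ G,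
        ∃ x : tB (𝟙 (Spec (CommRingCat.of W))) (IsLocalRing.ResidueField W) ⟶ P, x ≫ p = g := by
      intro g
      obtain ⟨x, hx⟩ := hall ((tMap (𝟙 _) (Algebra.ofId W _) ≫ k₁) * g * (tMap (𝟙 _) (Algebra.ofId W _) ≫ k₁)⁻¹)
      refine ⟨x, ?_⟩
      rw [hconj] at hx
      exact mul_left_cancel (mul_right_cancel hx)
    have hroot : ∀ a : D.idx, Multiplicative.ofAdd (D.P.root a) ∈ Tv (W := W) t := fun a =>
      root_mem c D (C := IsLocalRing.ResidueField W) _ a ((hmem _ _).1 (hall' _))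
    obtain ⟨t₀, ht₀⟩ := exists_TPt_of_units t fun m => by
      have := fv_eq_zero_of_roots D hss t hroot m.toAdd
      rwa [fv_eq_zero_iff] at this
    refine ⟨k₁ * (dsEquiv (tB (𝟙 _) W) D.M (chΓ (𝟙 _) t₀) ≫ J) * k₂, ?_⟩
    rw [hh, MonObj.comp_mul, MonObj.comp_mul, ← Category.assoc (tMap (𝟙 _) _) (dsEquiv _ _ _), tMap_dsEquiv, ht₀]
    rfl

end main

end K950.ParAd
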