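import Groth.Agent.NonAbH1.K950.ParAd
import Groth.Agent.NonAbH1.K552.Push
import Groth.Agent.RedSub.H647.SubPt

/-!
# Automorphisms and the parabolic subgroup adapted to a point

`V → W` a ring homomorphism, `G` a group over `V`, `h` a point of `G` over a field `L` over `W`, `P ⊆ G_W` adapted to
`h`, `σ` an automorphism of `(W, L)` over `V` with `σ(h) ∈ h G(W)`. Then `P` and its transform by `σ` have the same points
over the closed point of `W`.
-/

set_option autoImplicit false
set_option linter.unusedSectionVars false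
universe u

open CategoryTheory MonoidalCategory CartesianMonoidalCategory MonObj GrpObj AlgebraicGeometry Limits

namespace K950.ParGal

open Groth.Agent.Sga3B PinMod K552.Push K950.ParAd

section pts

variable {V W : Type u} [CommRing V] [CommRing W] [Algebra V W]

variable (V W) in
/-- `Spec W ⟶ Spec V` -/
noncomputable abbrev fW : Spec (CommRingCat.of W) ⟶ Spec (CommRingCat.of V) := Spec.map (CommRingCat.ofHom (algebraMap V W))

variable (V) in
/-- `Spec B` over `Spec V` -/
noncomputable abbrev T (B : Type u) [CommRing B] [Algebra V B] : Over (Spec (CommRingCat.of V)) :=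
  Over.mk (Spec.map (CommRingCat.ofHom (algebraMap V B)))

variable {B C : Type u} [CommRing B] [Algebra V B] [CommRing C] [Algebra V C]

/-- functoriality -/
noncomputable def Tm (φ : B →ₐ[V] C) : T V C ⟶ T V B :=
  Over.homMk (Spec.map (CommRingCat.ofHom (φ : B →+* C))) (by
    change Spec.map _ ≫ Spec.map _ = Spec.map _
    rw [← Spec.map_comp, ← CommRingCat.ofHom_comp, AlgHom.comp_algebraMap])

lemma Tm_left (φ : B →ₐ[V] C) : (Tm φ).left = Spec.map (CommRingCat.ofHom (φ : B →+* C)) := rfl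

lemma Tm_Tm {D : Type u} [CommRing D] [Algebra V D] (φ : B →ₐ[V] C) (ψ : C →ₐ[V] D) :
    Tm ψ ≫ Tm φ = Tm (ψ.comp φ) := by
  ext1
  change Spec.map _ ≫ Spec.map _ = Spec.map _
  rw [← Spec.map_comp, ← CommRingCat.ofHom_comp]
  rfl

variable [Algebra W B] [IsScalarTower V W B] [Algebra W C] [IsScalarTower V W C]

variable (V W B) in
/-- `Spec B` over `W`, regarded over `V` -/
noncomputable def iB : (Over.map (fW V W)).obj (tB (𝟙 (Spec (CommRingCat.of W))) B) ≅ T V B :=
  Over.isoMk (Iso.refl _) (by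
    change 𝟙 _ ≫ Spec.map _ = (Spec.map _ ≫ 𝟙 _) ≫ Spec.map _
    rw [Category.id_comp, Category.comp_id, ← Spec.map_comp, ← CommRingCat.ofHom_comp, ← IsScalarTower.algebraMap_eq])

lemma iB_hom_left : (iB V W B).hom.left = 𝟙 _ := rfl

variable {G : Over (Spec (CommRingCat.of V))} [GrpObj G]

/-- points of `G` as points of `G_W` -/
noncomputable def upB (c : T V B ⟶ G) : tB (𝟙 (Spec (CommRingCat.of W))) B ⟶ Red.bc (fW V W) G :=
  up ((iB V W B).hom ≫ c)

lemma upB_mul (c c' : T V B ⟶ G) : upB (W := W) (c * c') = upB c * upB c' := by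
  rw [upB, MonObj.comp_mul, up_mul]
  rfl

lemma upB_one : upB (W := W) (1 : T V B ⟶ G) = 1 := by
  rw [upB, MonObj.comp_one, up_one]

lemma upB_inv (c : T V B ⟶ G) : upB (W := W) c⁻¹ = (upB c)⁻¹ := by
  apply eq_inv_of_mul_eq_one_left
  rw [← upB_mul, inv_mul_cancel, upB_one]

omit [GrpObj G] in
lemma upB_injective : Function.Injective (upB (V := V) (W := W) (B := B) (G := G)) := by
  intro c c' h
  have h1 := congrArg dn h
  rw [upB, upB, dn_up, dn_up, cancel_epi] at h1
  exact h1

omit [GrpObj G] in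
lemma upB_surjective : Function.Surjective (upB (V := V) (W := W) (B := B) (G := G)) := by
  intro g
  refine ⟨(iB V W B).inv ≫ dn g, ?_⟩
  rw [upB, Iso.hom_inv_id_assoc, up_dn]

omit [GrpObj G] in
lemma tMap_upB (φ : B →ₐ[W] C) (c : T V B ⟶ G) :
    tMap (𝟙 _) φ ≫ upB c = upB (W := W) (Tm (φ.restrictScalars V) ≫ c) := by
  rw [upB, comp_up, upB]
  congr 1

omit [GrpObj G] in
lemma upB_left_fst (c : T V B ⟶ G) : (upB (W := W) c).left ≫ pullback.fst G.hom (fW V W) = c.left := by
  rw [upB, up_left_fst, Over.comp_left, iB_hom_left, Category.id_comp]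

end pts

section twist

variable (V W L : Type u) [CommRing V] [CommRing W] [Algebra V W] [Field L] [Algebra W L] [Algebra V L]

/-- an automorphism of `W` and `L` over `V` -/
structure Aut2 where
  /-- on `W` -/
  s : W ≃ₐ[V] W
  /-- on `L` -/
  sL : L ≃ₐ[V] L
  compat : ∀ w, sL (algebraMap W L w) = algebraMap W L (s w)

variable {V W L} (σ : Aut2 V W L)

/-- the same ring with the twisted structure -/
def Tw (_ : Aut2 V W L) (B : Type u) : Type u := B

noncomputable instance (B : Type u) [CommRing B] : CommRing (Tw σ B) := inferInstanceAs (CommRing B)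

noncomputable instance (B : Type u) [CommRing B] [Algebra V B] : Algebra V (Tw σ B) := inferInstanceAs (Algebra V B)

noncomputable instance algW (B : Type u) [CommRing B] [Algebra W B] : Algebra W (Tw σ B) :=
  ((algebraMap W B).comp (σ.s : W →+* W)).toAlgebra

noncomputable instance algL (B : Type u) [CommRing B] [Algebra L B] : Algebra L (Tw σ B) :=
  ((algebraMap L B).comp (σ.sL : L →+* L)).toAlgebra

lemma algW_apply (B : Type u) [CommRing B] [Algebra W B] (w : W) :
    algebraMap W (Tw σ B) w = (algebraMap W B (σ.s w) : B) := rfl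

lemma algL_apply (B : Type u) [CommRing B] [Algebra L B] (w : L) :
    algebraMap L (Tw σ B) w = (algebraMap L B (σ.sL w) : B) := rfl

instance (B : Type u) [CommRing B] [Algebra W B] [Algebra V B] [IsScalarTower V W B] : IsScalarTower V W (Tw σ B) :=
  IsScalarTower.of_algebraMap_eq fun v => by
    rw [algW_apply, AlgEquiv.commutes, ← IsScalarTower.algebraMap_apply V W B]
    rfl

instance (B : Type u) [CommRing B] [Algebra W B] [Algebra L B] [IsScalarTower W L B] : IsScalarTower W L (Tw σ B) :=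
  IsScalarTower.of_algebraMap_eq fun v => by
    rw [algW_apply, algL_apply, σ.compat, ← IsScalarTower.algebraMap_apply W L B]

/-- the twist of a homomorphism -/
noncomputable def tw {B C : Type u} [CommRing B] [Algebra W B] [CommRing C] [Algebra W C] (φ : B →ₐ[W] C) :
    Tw σ B →ₐ[W] Tw σ C :=
  { (φ : B →+* C) with
    commutes' := fun w => φ.commutes (σ.s w) }

/-- a point with values in `B`, with values in the twist of `B` (the structure over `V` is the same) -/
noncomputable def cT {G : Over (Spec (CommRingCat.of V))} {B : Type u} [CommRing B] [Algebra V B] (c : T V B ⟶ G) :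
    T V (Tw σ B) ⟶ G := c

lemma cT_left {G : Over (Spec (CommRingCat.of V))} {B : Type u} [CommRing B] [Algebra V B] (c : T V B ⟶ G) :
    (cT σ c).left = c.left := rfl

lemma cT_mul {G : Over (Spec (CommRingCat.of V))} [GrpObj G] {B : Type u} [CommRing B] [Algebra V B]
    (c c' : T V B ⟶ G) : cT σ (c * c') = cT σ c * cT σ c' := rfl

lemma cT_inv {G : Over (Spec (CommRingCat.of V))} [GrpObj G] {B : Type u} [CommRing B] [Algebra V B]
    (c : T V B ⟶ G) : cT σ c⁻¹ = (cT σ c)⁻¹ := rfl

lemma cT_Tm {G : Over (Spec (CommRingCat.of V))} {B C : Type u} [CommRing B] [Algebra V B] [Algebra W B]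
    [IsScalarTower V W B] [CommRing C] [Algebra V C] [Algebra W C] [IsScalarTower V W C] (φ : B →ₐ[W] C)
    (c : T V B ⟶ G) : Tm ((tw σ φ).restrictScalars V) ≫ cT σ c = cT σ (Tm (φ.restrictScalars V) ≫ c) := rfl

variable [IsLocalRing W] [IsScalarTower V W L] {G : Over (Spec (CommRingCat.of V))} [GrpObj G]
  {P : Over (Spec (CommRingCat.of W))} {p : P ⟶ Red.bc (fW V W) G} {h : T V L ⟶ G}

lemma grp3 {Γ : Type*} [Group Γ] (e c w : Γ) : w⁻¹ * (e⁻¹ * c * e) * w = (e * w)⁻¹ * c * (e * w) := by group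

instance isLocalHom_s : IsLocalHom (σ.s : W →+* W) := inferInstanceAs (IsLocalHom (σ.s.toRingEquiv : W →+* W))

/-- **The transform of the points of `P` by an automorphism.** -/
theorem exists_twist (hA : Adapted p (upB (W := W) h)) (w : T V W ⟶ G)
    (hw : Tm (σ.sL : L →ₐ[V] L) ≫ h = h * (Tm (IsScalarTower.toAlgHom V W L) ≫ w))
    {B B' C : Type u} [CommRing B] [Algebra V B] [Algebra W B] [IsScalarTower V W B]
    [CommRing B'] [Algebra V B'] [Algebra W B'] [IsScalarTower V W B'] [Algebra L B'] [IsScalarTower W L B']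
    [IsScalarTower V L B'] [CommRing C] [Algebra V C] [Algebra W C] [IsScalarTower V W C]
    (φ : B →ₐ[W] B') (hφ : Function.Injective φ) (ψ : B →ₐ[W] C)
    (hψ : ∀ w ∈ IsLocalRing.maximalIdeal W, algebraMap W C w = 0)
    (c : T V B ⟶ G) (x : tB (𝟙 (Spec (CommRingCat.of W))) B ⟶ P) (hx : x ≫ p = upB c) :
    ∃ x' : tB (𝟙 (Spec (CommRingCat.of W))) (Tw σ C) ⟶ P,
      x' ≫ p = upB (W := W) (cT σ (Tm (ψ.restrictScalars V) ≫ c)) := by
  obtain ⟨g', hg'⟩ := hA.conj B B' φ hφ x
  obtain ⟨c', rfl⟩ := upB_surjective (V := V) g'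
  rw [hx, tMap_upB, tMap_upB, tMap_upB, ← upB_inv, ← upB_mul, ← upB_mul] at hg'
  have h1 := upB_injective hg'
  have h2 : Tm ((IsScalarTower.toAlgHom W L (Tw σ B')).restrictScalars V) ≫ h =
      cT σ ((Tm ((IsScalarTower.toAlgHom W L B').restrictScalars V) ≫ h) *
        (Tm (φ.restrictScalars V) ≫ Tm (IsScalarTower.toAlgHom V W B) ≫ w)) := by
    have h3 : Tm ((IsScalarTower.toAlgHom W L (Tw σ B')).restrictScalars V) ≫ h =
        cT σ (Tm ((IsScalarTower.toAlgHom W L B').restrictScalars V) ≫ Tm (σ.sL : L →ₐ[V] L) ≫ h) := by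
      rw [← Category.assoc (Tm _) (Tm _) h, Tm_Tm]
      rfl
    have h4 : ((IsScalarTower.toAlgHom W L B').restrictScalars V).comp (IsScalarTower.toAlgHom V W L) =
        (φ.restrictScalars V).comp (IsScalarTower.toAlgHom V W B) := by
      refine AlgHom.ext fun z => ?_
      change algebraMap L B' (algebraMap W L z) = φ (algebraMap W B z)
      rw [AlgHom.commutes, ← IsScalarTower.algebraMap_apply]
    rw [h3, hw, MonObj.comp_mul, ← Category.assoc (Tm _) (Tm _) w, ← Category.assoc (Tm _) (Tm _) w, Tm_Tm, Tm_Tm, h4]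
  refine hA.lift (Tw σ B) (Tw σ B') (Tw σ C) (tw σ φ) hφ (tw σ ψ) (fun v hv => ?_) (upB (cT σ c))
    (upB (cT σ ((Tm (IsScalarTower.toAlgHom V W B) ≫ w)⁻¹ * c' * (Tm (IsScalarTower.toAlgHom V W B) ≫ w)))) ?_ |>.imp
    fun x' hx' => ?_
  · rw [algW_apply]
    apply hψ
    rw [IsLocalRing.mem_maximalIdeal, mem_nonunits_iff] at hv ⊢
    exact fun hu => hv ((MulEquiv.isUnit_map σ.s).1 hu)
  · rw [tMap_upB, tMap_upB, tMap_upB, ← upB_inv, ← upB_mul, ← upB_mul]
    congr 1
    rw [h2, cT_Tm, cT_Tm, ← cT_inv, ← cT_mul, ← cT_mul]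
    congr 1
    rw [MonObj.comp_mul, MonObj.comp_mul, GrpObj.comp_inv, h1]
    exact grp3 _ _ _
  · rw [hx', tMap_upB]
    rfl

end twist

end K950.ParGal
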