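import Groth.Agent.NonAbH1.K950.ParInv
import Groth.Agent.NonAbH1.K552.VlSt

/-!
# Integral points of anisotropic semisimple groups over henselian valuation rings

`V` a henselian valuation ring, `G` semisimple over `V` without copies of `𝔾_m`, `W` a valuation ring which is finite etale
and Galois over `V`, `G_W` split. A point `h` of `G` over the fraction field of `W` with `σ(h) ∈ h G(W)` for all `σ`
belongs to `G(W)`.
-/

set_option autoImplicit false
set_option linter.unusedSectionVars false
universe u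

open CategoryTheory MonoidalCategory CartesianMonoidalCategory MonObj GrpObj AlgebraicGeometry Limits

namespace K950.ParHens

open Groth.Agent.Sga3B Groth.Agent.Sga3B.MT Groth.Agent.RedSub.H648 PinMod K552.Push K950.ParAd K950.ParGal
  K950.ParPt K950.ParInv Groth.Agent.RedSub.H647.SubPt IsLocalRing

section main

variable {V W L : Type u} [CommRing V] [CommRing W] [Algebra V W] [Field L] [Algebra W L] [Algebra V L]
  [IsScalarTower V W L] [HenselianLocalRing V] [IsLocalRing W] [IsLocalHom (algebraMap V W)]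
  {Γ : Type*} [Group Γ] [Finite Γ] [MulSemiringAction Γ W] [Algebra.IsInvariant V W Γ]
  {G : Over (Spec (CommRingCat.of V))} [GrpObj G]
  {P : Over (Spec (CommRingCat.of W))} [GrpObj P] {p : P ⟶ Red.bc (fW V W) G} {h : T V L ⟶ G}

variable (V W) in
/-- the extension of residue fields -/
noncomputable abbrev jr : ResidueField V →+* ResidueField W := ResidueField.map (algebraMap V W)

lemma jr_cl : Spec.map (CommRingCat.ofHom (jr V W)) ≫ cl V = cl W ≫ fW V W := by
  rw [← Spec.map_comp, ← Spec.map_comp, ← CommRingCat.ofHom_comp, ← CommRingCat.ofHom_comp]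
  have h1 : (jr V W).comp (residue V) = (residue W).comp (algebraMap V W) :=
    RingHom.ext fun w => ResidueField.map_residue _ _
  rw [h1]

lemma cancel_jr {X : Scheme.{u}} [IsAffine X] {a b : Spec (CommRingCat.of (ResidueField V)) ⟶ X}
    (e : Spec.map (CommRingCat.ofHom (jr V W)) ≫ a = Spec.map (CommRingCat.ofHom (jr V W)) ≫ b) : a = b := by
  have h1 : ∀ {B : CommRingCat.{u}} (x y : Spec (CommRingCat.of (ResidueField V)) ⟶ Spec B),
      Spec.map (CommRingCat.ofHom (jr V W)) ≫ x = Spec.map (CommRingCat.ofHom (jr V W)) ≫ y → x = y := by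
    intro B x y hxy
    obtain ⟨φ, rfl⟩ := Spec.map_surjective x
    obtain ⟨ψ, rfl⟩ := Spec.map_surjective y
    rw [← Spec.map_comp, ← Spec.map_comp] at hxy
    have h2 := Spec.map_injective hxy
    congr 1
    ext b
    exact (jr V W).injective (congrArg (fun k => k.hom b) h2)
  rw [← cancel_mono X.isoSpec.hom]
  apply h1
  rw [← Category.assoc, ← Category.assoc, e]

/-- **The parabolic subgroup over `V`.** -/
theorem exists_parabolic (hind : ∀ g h : Γ, g ≠ h → ∃ a : W, g • a - h • a ∉ maximalIdeal W) (au : Γ → Aut2 V W L)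
    (hau : ∀ g w, (au g).s w = g • w) (hG : Red.IsReductive G) (hinj : Function.Injective (algebraMap W L))
    (hp : Red.IsParabolic p) (hA : Adapted p (upB (W := W) h))
    (hw : ∀ g : Γ, ∃ w : T V W ⟶ G,
      Tm ((au g).sL : L →ₐ[V] L) ≫ h = h * (Tm (IsScalarTower.toAlgHom V W L) ≫ w)) :
    ∃ (P₁ : Over (Spec (CommRingCat.of V))) (_ : GrpObj P₁) (p₁ : P₁ ⟶ G), Red.IsParabolic p₁ ∧
      ∀ {X : Scheme.{u}} (y : X ⟶ Spec (CommRingCat.of (ResidueField W))) (c : X ⟶ G.left),
        Pt p (y ≫ cl W) c ↔ ∃ z : X ⟶ P₁.left, z ≫ P₁.hom = y ≫ cl W ≫ fW V W ∧ z ≫ p₁.left = c := by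
  have hPa : IsAffine P.left := by
    have h1 := hp.2.1
    have h2 := (RedBcAny636.isReductive_bc (fW V W) hG).1
    have h3 : IsAffineHom P.hom := by
      rw [← Over.w p]
      infer_instance
    exact isAffine_of_isAffineHom P.hom
  obtain ⟨M, H, _, hM, hr, hsm, hpr, -⟩ := Groth.Agent.S3978.result G hG
  have hcl : IsClosedImmersion hM.left :=
    (Groth.Agent.S3968.result (RedBcAny636.isReductive_bc M.hom hG) hM hr.1).1
  obtain ⟨y, ⟨hy, hys⟩, -⟩ := hr.2 _ (fW V W) P p (Groth.Agent.K547.Fam.isParabolicSub_of_isParabolic hp)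
  have hinv : ∀ g : Γ, Spec.map (CommRingCat.ofHom (bar (au g))) ≫ cl W ≫ y = cl W ≫ y := fun g =>
    invariant hG hinj hp hA hr y hy hys (au g) (au g⁻¹) (fun w => by
      rw [hau, hau, smul_inv_smul]) (hw g) (hw g⁻¹)
  obtain ⟨t, ht⟩ := exists_point (jr V W) (fun g : Γ => bar (au g)) (fun x hx => by
    obtain ⟨w, rfl⟩ := residue_surjective x
    obtain ⟨v, hv⟩ := exists_of_fixed (V := V) hind w fun g => by
      have := hx g
      rwa [bar_residue, hau] at this
    exact ⟨residue V v, by rw [ResidueField.map_residue, hv]⟩) (cl W ≫ y) hinv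
  have ht' : t ≫ M.hom = cl V := by
    apply cancel_jr (W := W)
    rw [← Category.assoc, ht, Category.assoc, hy, jr_cl]
  obtain ⟨a, ha, ha'⟩ := Groth.Agent.K547.HensLift.exists_section M.hom t ht'
  obtain ⟨P₁, _, p₁, hp₁, hpt⟩ := Groth.Agent.K547.Fam.exists_sub hG hM hr.1 hcl a ha
  refine ⟨P₁, inferInstance, p₁, hp₁, fun {X} z c => ?_⟩
  rw [← hpt, (samePoints_iff p M hM y).1 hys]
  have h1 : (z ≫ cl W) ≫ y = (z ≫ cl W ≫ fW V W) ≫ a := by
    rw [← jr_cl, Category.assoc, ← ht, ← ha']
    simp only [Category.assoc]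
  rw [h1]

/-- **Points over the closed point.** -/
theorem exists_mem [IsDomain V] [ValuationRing V] (hind : ∀ g h : Γ, g ≠ h → ∃ a : W, g • a - h • a ∉ maximalIdeal W)
    (au : Γ → Aut2 V W L) (hau : ∀ g w, (au g).s w = g • w) (hG : Red.IsReductive G)
    (han : ∀ (i : Red.Gm (Spec (CommRingCat.of V)) ⟶ G) [IsMonHom i], ¬ Mono i)
    (hinj : Function.Injective (algebraMap W L)) (hp : Red.IsParabolic p) (hA : Adapted p (upB (W := W) h))
    (hw : ∀ g : Γ, ∃ w : T V W ⟶ G,
      Tm ((au g).sL : L →ₐ[V] L) ≫ h = h * (Tm (IsScalarTower.toAlgHom V W L) ≫ w))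
    (g : tB (𝟙 (Spec (CommRingCat.of W))) (ResidueField W) ⟶ Red.bc (fW V W) G) : ∃ x, x ≫ p = g := by
  have hGa := hG.1
  have hGs := hG.2.1
  obtain ⟨P₁, _, p₁, hp₁, hpt⟩ := exists_parabolic hind au hau hG hinj hp hA hw
  have hiso : IsIso p₁ := by
    by_contra hni
    obtain ⟨lam, hl, hlp⟩ := K545.Dyn.exists_cochar hG hp₁
    obtain ⟨i, hi, hi'⟩ := K672.AnisoPar.exists_mono_of_ne_one lam (by
      rintro rfl
      exact hni (K672.AnisoPar.isIso_of_isDynP_one hlp))
    exact han i hi'
  have hwg : g.left ≫ pullback.snd G.hom (fW V W) = cl W := (Over.w g).trans (Category.comp_id _)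
  obtain ⟨x, hx1, hx2⟩ := (hpt (𝟙 _) (g.left ≫ pullback.fst G.hom (fW V W))).2
    ⟨g.left ≫ pullback.fst G.hom (fW V W) ≫ (CategoryTheory.inv p₁).left, by
      rw [Category.assoc, Category.assoc, Over.w, pullback.condition, ← Category.assoc, hwg, Category.id_comp], by
      have h1 : (CategoryTheory.inv p₁).left ≫ p₁.left = 𝟙 _ :=
        congrArg (fun k => k.left) (IsIso.inv_hom_id p₁)
      rw [Category.assoc, Category.assoc, h1, Category.comp_id]⟩
  rw [Category.id_comp] at hx1
  refine ⟨Over.homMk x (hx1.trans (Category.comp_id _).symm), ?_⟩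
  apply Over.OverMorphism.ext
  apply pullback.hom_ext
  · exact (Category.assoc _ _ _).trans hx2
  · refine (Category.assoc _ _ _).trans ((congrArg (x ≫ ·) (Over.w p)).trans (hx1.trans hwg.symm))

end main

section final

variable {V : Type u} [CommRing V] [IsDomain V] [ValuationRing V] [HenselianLocalRing V]
  {K : Type u} [Field K] [Algebra V K] [IsFractionRing V K] {L : Type u} [Field L] [Algebra K L] [Algebra V L]
  [IsScalarTower V K L] [FiniteDimensional K L] [IsGalois K L]

attribute [local instance] K552.VlSt.smulCommClass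

variable (V K L) in
/-- the automorphism defined by an element of the Galois group -/
noncomputable def au (g : L ≃ₐ[K] L) : Aut2 V (integralClosure V L) L where
  s := MulSemiringAction.toAlgEquiv V (integralClosure V L) g
  sL := g.restrictScalars V
  compat _ := rfl

/-- **The main theorem.** -/
theorem main [Algebra.Etale V (integralClosure V L)] [Module.Finite V (integralClosure V L)]
    [IsLocalRing (integralClosure V L)] [ValuationRing (integralClosure V L)]
    [Infinite (ResidueField (integralClosure V L))]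
    {G : Over (Spec (CommRingCat.of V))} [GrpObj G] (hG : Red.IsSemisimple G)
    (han : ∀ (i : Red.Gm (Spec (CommRingCat.of V)) ⟶ G) [IsMonHom i], ¬ Mono i)
    (D : Red.SplitRed (Red.bc (fW V (integralClosure V L)) G)) (h : T V L ⟶ G)
    (hw : ∀ g : L ≃ₐ[K] L, ∃ w : T V (integralClosure V L) ⟶ G,
      Tm ((g.restrictScalars V : L ≃ₐ[V] L) : L →ₐ[V] L) ≫ h =
        h * (Tm (IsScalarTower.toAlgHom V (integralClosure V L) L) ≫ w)) :
    ∃ h' : T V (integralClosure V L) ⟶ G, Tm (IsScalarTower.toAlgHom V (integralClosure V L) L) ≫ h' = h := by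
  have hred : Red.IsReductive G := ⟨hG.1, hG.2.1, fun s => (hG.2.2 s).1⟩
  have hfr : IsFractionRing (integralClosure V L) L := integralClosure.isFractionRing_of_finite_extension K L
  have hinvt := K552.VlSt.isInvariant (V := V) (K := K) (L := L)
  have hst := K552.VlSt.st (V := V) (K := K) (L := L)
  have hloc : IsLocalHom (algebraMap V (integralClosure V L)) :=
    ((IsLocalRing.local_hom_TFAE (algebraMap V (integralClosure V L))).out 0 4).mpr
      (K552.VlSt.comap_eq (maximalIdeal (integralClosure V L)))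
  obtain ⟨P, _, p, hp, hA, hlift⟩ := exists_adapted D (upB (W := integralClosure V L) h)
  obtain ⟨h', hh'⟩ := hlift (RedBcAny636.isSemisimple_bc _ hG) fun g =>
    exists_mem (fun g h hgh => hst.indep (maximalIdeal _) g h hgh) (au V K L) (fun _ _ => rfl) hred han
      (IsFractionRing.injective _ _) hp hA hw g
  obtain ⟨c, rfl⟩ := upB_surjective (V := V) h'
  rw [tMap_upB] at hh'
  exact ⟨c, upB_injective hh'⟩

end final

end K950.ParHens
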