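import Groth.Agent.NonAbH1.K950.ParPt
import Groth.Agent.Par.K547.Fam
import Groth.Agent.Red.K672.AnisoPar
import Mathlib.RingTheory.Invariant.Basic
import Mathlib.LinearAlgebra.LinearIndependent.Lemmas
import Mathlib.FieldTheory.Fixed

/-!
# The adapted parabolic subgroup and parabolic subgroups over a henselian ring

The parabolic subgroup of `G_W` adapted to `h` defines a point of the scheme of parabolic subgroups over the residue
field of `W`. It is fixed by the Galois group, hence comes from the residue field of `V`, hence lifts to `V`.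
-/

set_option autoImplicit false
set_option linter.unusedSectionVars false
universe u

open CategoryTheory MonoidalCategory CartesianMonoidalCategory MonObj GrpObj AlgebraicGeometry Limits

namespace K950.ParInv

open Groth.Agent.Sga3B Groth.Agent.Sga3B.MT Groth.Agent.RedSub.H648 PinMod K552.Push K950.ParAd K950.ParGal K950.ParPt Groth.Agent.RedSub.H647.SubPt
  IsLocalRing

section res

variable {V W Γ : Type*} [CommRing V] [CommRing W] [Algebra V W] [IsLocalRing V] [IsLocalRing W]
  [IsLocalHom (algebraMap V W)] [Group Γ] [Finite Γ] [MulSemiringAction Γ W] [Algebra.IsInvariant V W Γ]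

/-- The elements of the residue field fixed by the group come from the base. -/
theorem exists_of_fixed (hind : ∀ g h : Γ, g ≠ h → ∃ a : W, g • a - h • a ∉ maximalIdeal W) (w : W)
    (hw : ∀ g : Γ, residue W (g • w) = residue W w) : ∃ v : V, residue W (algebraMap V W v) = residue W w := by
  classical
  cases nonempty_fintype Γ
  let χ : Γ → (W →* ResidueField W) := fun g =>
    ((residue W).comp (MulSemiringAction.toRingHom Γ W g) : W →+* ResidueField W)
  have hχ : Function.Injective χ := by
    intro g h e
    by_contra hne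
    obtain ⟨a, ha⟩ := hind g h hne
    apply ha
    rw [← residue_eq_zero_iff, map_sub, sub_eq_zero]
    exact DFunLike.congr_fun e a
  have hli := (linearIndependent_monoidHom W (ResidueField W)).comp χ hχ
  obtain ⟨t, ht⟩ : ∃ t : W, ∑ g : Γ, residue W (g • t) ≠ 0 := by
    by_contra hcon
    push Not at hcon
    have h1 := Fintype.linearIndependent_iff.1 hli (fun _ => 1) (by
      funext t
      rw [Finset.sum_apply]
      refine Eq.trans (Finset.sum_congr rfl fun g _ => ?_) (hcon t)
      exact _root_.one_mul (χ g t)) 1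
    exact one_ne_zero h1
  have key : ∀ a : W, ∃ v : V, algebraMap V W v = ∑ g : Γ, g • a := fun a =>
    Algebra.IsInvariant.isInvariant (A := V) (G := Γ) _ fun g => by
      rw [Finset.smul_sum]
      simp only [smul_smul]
      exact Fintype.sum_equiv (Equiv.mulLeft g) _ _ fun _ => rfl
  obtain ⟨a, ha⟩ := key t
  obtain ⟨b, hb⟩ := key (t * w)
  have h1 : residue W (algebraMap V W b) = residue W (algebraMap V W a) * residue W w := by
    rw [ha, hb, map_sum, map_sum, Finset.sum_mul]
    refine Finset.sum_congr rfl fun g _ => ?_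
    rw [smul_mul', map_mul, hw]
  have h2 : residue W (algebraMap V W a) ≠ 0 := by
    rw [ha, map_sum]
    exact ht
  have h3 : IsUnit a := by
    have h4 : IsUnit (algebraMap V W a) := by
      by_contra hn
      exact h2 ((residue_eq_zero_iff _).2 ((mem_maximalIdeal _).2 hn))
    exact isUnit_of_map_unit _ _ h4
  obtain ⟨u, rfl⟩ := h3
  refine ⟨(u⁻¹ : Vˣ) * b, ?_⟩
  rw [map_mul, map_mul, h1, ← _root_.mul_assoc, ← map_mul (residue W), ← map_mul (algebraMap V W), Units.inv_mul, map_one,
    map_one, _root_.one_mul]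

end res

/-- A point of a scheme with values in a field fixed by endomorphisms. -/
theorem exists_point {k l : Type u} [Field k] [Field l] (j : k →+* l) {I : Type*} (r : I → l →+* l)
    (hfix : ∀ x, (∀ i, r i x = x) → x ∈ Set.range j) {X : Scheme.{u}} (x : Spec (CommRingCat.of l) ⟶ X)
    (hx : ∀ i, Spec.map (CommRingCat.ofHom (r i)) ≫ x = x) :
    ∃ t : Spec (CommRingCat.of k) ⟶ X, Spec.map (CommRingCat.ofHom j) ≫ t = x := by
  obtain ⟨⟨y, f⟩, hy⟩ : ∃ yf, (Scheme.SpecToEquivOfField l X).symm yf = x :=
    ⟨_, (Scheme.SpecToEquivOfField l X).symm_apply_apply x⟩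
  have hy' : Spec.map f ≫ X.fromSpecResidueField y = x := hy
  have hmem : ∀ t : X.residueField y, f.hom t ∈ Set.range j := by
    intro t
    apply hfix
    intro i
    have hfr := hx i
    rw [← hy', ← Category.assoc, cancel_mono, ← Spec.map_comp] at hfr
    have hf : f ≫ CommRingCat.ofHom (r i) = f := Spec.map_injective hfr
    exact congrArg (fun g : X.residueField y ⟶ CommRingCat.of l => g.hom t) hf
  choose s hs using hmem
  have hinj : Function.Injective j := j.injective
  let σ : X.residueField y →+* k :=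
    { toFun := s
      map_one' := hinj (by rw [hs, map_one, map_one])
      map_mul' := fun a b => hinj (by rw [hs, map_mul, map_mul, hs, hs])
      map_zero' := hinj (by rw [hs, map_zero, map_zero])
      map_add' := fun a b => hinj (by rw [hs, map_add, map_add, hs, hs]) }
  refine ⟨Spec.map (CommRingCat.ofHom σ) ≫ X.fromSpecResidueField y, ?_⟩
  rw [← hy', ← Category.assoc, ← Spec.map_comp]
  congr 2
  ext t
  exact hs t

section main

variable {V W L : Type u} [CommRing V] [CommRing W] [Algebra V W] [Field L] [Algebra W L] [Algebra V L]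
  [IsScalarTower V W L] [IsLocalRing W] {G : Over (Spec (CommRingCat.of V))} [GrpObj G]
  {P : Over (Spec (CommRingCat.of W))} [GrpObj P] {p : P ⟶ Red.bc (fW V W) G} {h : T V L ⟶ G}

/-- the automorphism of the residue field -/
noncomputable def bar (σ : Aut2 V W L) : ResidueField W →+* ResidueField W := ResidueField.map (σ.s : W →+* W)

lemma bar_residue (σ : Aut2 V W L) (w : W) : bar σ (residue W w) = residue W (σ.s w) := ResidueField.map_residue _ _

lemma bar_cl (σ : Aut2 V W L) : Spec.map (CommRingCat.ofHom (bar σ)) ≫ cl W =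
    cl W ≫ Spec.map (CommRingCat.ofHom (σ.s : W →+* W)) := by
  rw [← Spec.map_comp, ← Spec.map_comp, ← CommRingCat.ofHom_comp, ← CommRingCat.ofHom_comp]
  have h1 : (bar σ).comp (residue W) = (residue W).comp (σ.s : W →+* W) := RingHom.ext fun w => bar_residue σ w
  rw [h1]

lemma s_fW (σ : Aut2 V W L) : Spec.map (CommRingCat.ofHom (σ.s : W →+* W)) ≫ fW V W = fW V W := by
  rw [← Spec.map_comp, ← CommRingCat.ofHom_comp]
  congr 2
  exact RingHom.ext fun v => σ.s.commutes v

/-- **Invariance of the point of the scheme of parabolic subgroups.** -/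
theorem invariant (hG : Red.IsReductive G) (hinj : Function.Injective (algebraMap W L)) [IsAffine P.left]
    (hp : Red.IsParabolic p)
    (hA : Adapted p (upB (W := W) h)) {M : Over (Spec (CommRingCat.of V))} {H : Over M.left} [GrpObj H]
    {hM : H ⟶ Red.bc M.hom G} (hr : RedSub.RepresentsPar G M H hM) (y : Spec (CommRingCat.of W) ⟶ M.left)
    (hy : y ≫ M.hom = fW V W) (hys : RedSub.SamePoints G (fW V W) p M hM y)
    (σ τ : Aut2 V W L) (hστ : ∀ w, σ.s (τ.s w) = w)
    (hw : ∃ w : T V W ⟶ G, Tm (σ.sL : L →ₐ[V] L) ≫ h = h * (Tm (IsScalarTower.toAlgHom V W L) ≫ w))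
    (hw' : ∃ w : T V W ⟶ G, Tm (τ.sL : L →ₐ[V] L) ≫ h = h * (Tm (IsScalarTower.toAlgHom V W L) ≫ w)) :
    Spec.map (CommRingCat.ofHom (bar σ)) ≫ cl W ≫ y = cl W ≫ y := by
  have hfl : Flat P.hom := by
    have := hp.2.2.1
    infer_instance
  obtain ⟨w, hw⟩ := hw
  obtain ⟨w', hw'⟩ := hw'
  rw [samePoints_iff] at hys
  have hpar : Red.IsParabolic (bcSub (cl W) p) :=
    AlgBc.isParabolic_of_arrow (Iso.refl _) (BcIso.bcCompIso (cl W) (fW V W) G).symm (by
      rw [BorBc.und_refl, Category.id_comp, bcSub]
      congr 1) (BorBc.isParabolic_bc (cl W) (RedBcAny636.isReductive_bc (fW V W) hG) hp)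
  obtain ⟨g, -, hg⟩ := hr.2 _ (cl W ≫ fW V W) _ (bcSub (cl W) p) (Groth.Agent.K547.Fam.isParabolicSub_of_isParabolic hpar)
  have h1 := hg (cl W ≫ y) ⟨by rw [Category.assoc, hy], by
    rw [samePoints_iff]
    intro X z c
    rw [pt_bcSub, hys, Category.assoc]⟩
  have h2 := hg (Spec.map (CommRingCat.ofHom (bar σ)) ≫ cl W ≫ y) ⟨by
      rw [Category.assoc, Category.assoc, hy, ← Category.assoc, bar_cl, Category.assoc, s_fW], by
    rw [samePoints_iff]
    intro X z c
    rw [pt_bcSub]
    have h3 : z ≫ Spec.map (CommRingCat.ofHom (bar σ)) ≫ cl W ≫ y =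
        (z ≫ cl W ≫ Spec.map (CommRingCat.ofHom (σ.s : W →+* W))) ≫ y := by
      rw [← bar_cl]
      simp only [Category.assoc]
    rw [h3, ← hys]
    constructor
    · exact fun h4 => pt_twist σ hinj hA w hw z c h4
    · intro h4
      have h5 := pt_twist τ hinj hA w' hw' (z ≫ Spec.map (CommRingCat.ofHom (bar σ))) c (by
        rw [Category.assoc, bar_cl]
        exact h4)
      have h6 : (z ≫ Spec.map (CommRingCat.ofHom (bar σ))) ≫ cl W ≫ Spec.map (CommRingCat.ofHom (τ.s : W →+* W)) =
          z ≫ cl W := by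
        rw [Category.assoc, ← Category.assoc _ (cl W), bar_cl, Category.assoc, ← Spec.map_comp, ← CommRingCat.ofHom_comp]
        have h7 : (σ.s : W →+* W).comp (τ.s : W →+* W) = RingHom.id W := RingHom.ext hστ
        rw [h7]
        change z ≫ cl W ≫ Spec.map (𝟙 _) = _
        rw [Spec.map_id, Category.comp_id]
      rwa [h6] at h5⟩
  rw [h2, ← h1]

end main

end K950.ParInv
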