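import Groth.Agent.NonAbH1.K950.ParGal

/-!
# The points of the adapted parabolic subgroup over the closed point are stable under automorphisms
-/

set_option autoImplicit false
set_option linter.unusedSectionVars false
universe u

open CategoryTheory MonoidalCategory CartesianMonoidalCategory MonObj GrpObj AlgebraicGeometry Limits

namespace K950.ParPt

open Groth.Agent.Sga3B PinMod K552.Push K950.ParAd K950.ParGal Groth.Agent.RedSub.H647.SubPt
open scoped TensorProduct

section alg

variable {W : Type u} [CommRing W]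

lemma exists_frac (B L : Type u) [CommRing B] [Algebra W B] [Module.Flat W B] [Field L] [Algebra W L]
    (h : Function.Injective (algebraMap W L)) :
    ∃ (B' : Type u) (_ : CommRing B') (_ : Algebra W B') (_ : Algebra L B') (_ : IsScalarTower W L B')
      (φ : B →ₐ[W] B'), Function.Injective φ :=
  ⟨L ⊗[W] B, inferInstance, inferInstance, inferInstance, inferInstance, Algebra.TensorProduct.includeRight,
    Algebra.TensorProduct.includeRight_injective h⟩

lemma exists_fibre [IsLocalRing W] (B : Type u) [CommRing B] [Algebra W B] :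
    ∃ (C : Type u) (_ : CommRing C) (_ : Algebra W C) (χ : IsLocalRing.ResidueField W →+* C) (ψ : B →ₐ[W] C),
      χ.comp (IsLocalRing.residue W) = algebraMap W C ∧
      IsPullback (Spec.map (CommRingCat.ofHom (ψ : B →+* C))) (Spec.map (CommRingCat.ofHom χ))
        (Spec.map (CommRingCat.ofHom (algebraMap W B))) (Spec.map (CommRingCat.ofHom (IsLocalRing.residue W))) := by
  refine ⟨B ⊗[W] IsLocalRing.ResidueField W, inferInstance, inferInstance,
    (Algebra.TensorProduct.includeRight : IsLocalRing.ResidueField W →ₐ[W] B ⊗[W] IsLocalRing.ResidueField W).toRingHom,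
    Algebra.TensorProduct.includeLeft, ?_, ?_⟩
  · ext w
    exact (Algebra.TensorProduct.includeRight :
      IsLocalRing.ResidueField W →ₐ[W] B ⊗[W] IsLocalRing.ResidueField W).commutes w
  · exact isPullback_SpecMap_of_isPushout _ _ _ _
      (CommRingCat.isPushout_tensorProduct W B (IsLocalRing.ResidueField W))

end alg

section main

variable {V W L : Type u} [CommRing V] [CommRing W] [Algebra V W] [Field L] [Algebra W L] [Algebra V L]
  [IsScalarTower V W L] [IsLocalRing W] (σ : Aut2 V W L) {G : Over (Spec (CommRingCat.of V))} [GrpObj G]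
  {P : Over (Spec (CommRingCat.of W))} {p : P ⟶ Red.bc (fW V W) G} {h : T V L ⟶ G}

variable (W) in
/-- the closed point -/
noncomputable abbrev cl : Spec (CommRingCat.of (IsLocalRing.ResidueField W)) ⟶ Spec (CommRingCat.of W) :=
  Spec.map (CommRingCat.ofHom (IsLocalRing.residue W))

/-- **The points over the closed point.** -/
theorem pt_twist [IsAffine P.left] [Flat P.hom] (hinj : Function.Injective (algebraMap W L))
    (hA : Adapted p (upB (W := W) h)) (w : T V W ⟶ G)
    (hw : Tm (σ.sL : L →ₐ[V] L) ≫ h = h * (Tm (IsScalarTower.toAlgHom V W L) ≫ w))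
    {X : Scheme.{u}} (y : X ⟶ Spec (CommRingCat.of (IsLocalRing.ResidueField W))) (c : X ⟶ G.left)
    (hp : Pt p (y ≫ cl W) c) : Pt p (y ≫ cl W ≫ Spec.map (CommRingCat.ofHom (σ.s : W →+* W))) c := by
  obtain ⟨B, φ₀, e, he⟩ : ∃ (B : CommRingCat.{u}) (φ₀ : CommRingCat.of W ⟶ B) (e : P.left ≅ Spec B),
      e.inv ≫ P.hom = Spec.map φ₀ :=
    ⟨Γ(P.left, ⊤), Spec.preimage (P.left.isoSpec.inv ≫ P.hom), P.left.isoSpec, (Spec.map_preimage _).symm⟩
  let _ : Algebra W B := φ₀.hom.toAlgebra
  have he' : e.inv ≫ P.hom = Spec.map (CommRingCat.ofHom (algebraMap W B)) := he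
  have hfl : Flat (Spec.map φ₀) := by
    rw [← he]
    infer_instance
  have hflat : Module.Flat W B := by
    have h1 := (HasRingHomProperty.Spec_iff (P := @Flat)).1 hfl
    exact h1
  obtain ⟨B', _, _, _, _, φ, hφ⟩ := exists_frac (W := W) B L hinj
  obtain ⟨C, _, _, χ, ψ, hχ, hpb⟩ := exists_fibre (W := W) B
  let _ : Algebra V B := ((algebraMap W B).comp (algebraMap V W)).toAlgebra
  have _ : IsScalarTower V W B := IsScalarTower.of_algebraMap_eq fun _ => rfl
  let _ : Algebra V B' := ((algebraMap W B').comp (algebraMap V W)).toAlgebra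
  have _ : IsScalarTower V W B' := IsScalarTower.of_algebraMap_eq fun _ => rfl
  have _ : IsScalarTower V L B' := IsScalarTower.of_algebraMap_eq fun v => by
    rw [IsScalarTower.algebraMap_apply V W L, ← IsScalarTower.algebraMap_apply W L B']
    rfl
  let _ : Algebra V C := ((algebraMap W C).comp (algebraMap V W)).toAlgebra
  have _ : IsScalarTower V W C := IsScalarTower.of_algebraMap_eq fun _ => rfl
  let xu : tB (𝟙 (Spec (CommRingCat.of W))) B ⟶ P := Over.homMk e.inv (by
    rw [he']
    exact (Category.comp_id _).symm)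
  obtain ⟨cu, hcu⟩ := upB_surjective (V := V) (xu ≫ p)
  obtain ⟨x', hx'⟩ := exists_twist σ hA w hw φ hφ ψ (fun v hv => by
    rw [← hχ, RingHom.comp_apply, (IsLocalRing.residue_eq_zero_iff v).2 hv, map_zero]) cu xu hcu.symm
  obtain ⟨x, hx1, hx2⟩ := hp
  let xc : X ⟶ Spec (CommRingCat.of C) := hpb.lift (x ≫ e.hom) y (by
    rw [← he', Category.assoc, Iso.hom_inv_id_assoc, hx1])
  have hxc1 : xc ≫ Spec.map (CommRingCat.ofHom (ψ : B →+* C)) = x ≫ e.hom := hpb.lift_fst _ _ _
  have hxc2 : xc ≫ Spec.map (CommRingCat.ofHom χ) = y := hpb.lift_snd _ _ _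
  refine ⟨xc ≫ x'.left, ?_, ?_⟩
  · have h1 : x'.left ≫ P.hom = Spec.map (CommRingCat.ofHom (algebraMap W (Tw σ C))) ≫ 𝟙 _ := Over.w x'
    have h2 : Spec.map (CommRingCat.ofHom (algebraMap W (Tw σ C))) =
        Spec.map (CommRingCat.ofHom χ) ≫ cl W ≫ Spec.map (CommRingCat.ofHom (σ.s : W →+* W)) := by
      rw [← Spec.map_comp, ← Spec.map_comp, ← CommRingCat.ofHom_comp, ← CommRingCat.ofHom_comp, ← RingHom.comp_assoc,
        hχ]
      rfl
    rw [Category.comp_id, h2] at h1
    have h4 := congrArg (fun k => xc ≫ k) h1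
    refine (Category.assoc _ _ _).trans (h4.trans ?_)
    rw [← Category.assoc, hxc2]
  · have h1 : x'.left ≫ p.left ≫ pullback.fst G.hom (fW V W) =
        Spec.map (CommRingCat.ofHom (ψ : B →+* C)) ≫ cu.left := by
      have h3 := congrArg (fun k => k.left ≫ pullback.fst G.hom (fW V W)) hx'
      simp only [Over.comp_left, Category.assoc] at h3
      rw [h3, upB_left_fst]
      rfl
    have h2 : cu.left = e.inv ≫ p.left ≫ pullback.fst G.hom (fW V W) := by
      rw [← upB_left_fst (W := W) cu, hcu, Over.comp_left, Category.assoc]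
      rfl
    rw [h2] at h1
    have h4 := congrArg (fun k => xc ≫ k) h1
    refine (Category.assoc _ _ _).trans (h4.trans ?_)
    change xc ≫ Spec.map _ ≫ e.inv ≫ _ = _
    rw [← Category.assoc, hxc1, Category.assoc, Iso.hom_inv_id_assoc, hx2]

end main

end K950.ParPt
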