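import Groth.Agent.RedSub.K209.CartanSch
import Groth.Agent.Par.K547.OrdPar
import Groth.Agent.Par.K545.ConjTools
import Groth.Agent.S2962

/-!
# Conjugation by a torus point over the fraction field of a valuation ring

`W` a ring, `K` a `W`-algebra, `J : D(M) ⟶ G` over `Spec W`, `t ∈ D(M)(K)`, `T` the submonoid of the characters with
`t(m)⁻¹ ∈ W`. The points `g` of `G` with values in a flat `W`-algebra `B` which kill the functions of degree outside `T`
have `t⁻¹ g t ∈ G(B)`; and if `g, t⁻¹ g t ∈ G(B)` then `g` kills these functions modulo the maximal ideal of `W`.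
-/

set_option autoImplicit false
set_option linter.unusedSectionVars false
universe u

open CategoryTheory MonoidalCategory CartesianMonoidalCategory MonObj GrpObj AlgebraicGeometry Limits

namespace K950.ParVal

open Groth.Agent.Sga3B Cell PinMod DSPts GaPts K929.LieDict K929.Act K929.Act.TAct K929.ChartUni K929.ActSub RootCoact
open Groth.Agent.K547.QtTact Groth.Agent.Sga3B.Parab Groth.Agent.Sga3B.Parab.OrbM156 Groth.Agent.Sga3B.Parab.Chart998

section conj

variable {W : Type u} [CommRing W] {G : Over (Spec (CommRingCat.of W))} [GrpObj G]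
  (c : Chart G (𝟙 (Spec (CommRingCat.of W)))) {M : Type} [AddCommGroup M]
  (J : Red.DS (Spec (CommRingCat.of W)) M ⟶ G) [IsMonHom J]
variable {K B B' C : Type u} [Field K] [Algebra W K] [CommRing B] [Algebra W B] [CommRing B'] [Algebra W B']
  [Algebra K B'] [IsScalarTower W K B'] [CommRing C] [Algebra W C]

/-- the points which kill the functions of degree outside `T` -/
def Kills (T : Submonoid (Multiplicative M)) (g : Pt W c.A B) : Prop :=
  ∀ m : M, Multiplicative.ofAdd m ∉ T → ∀ a ∈ gr (actG c J).coact m, g.hom a = 0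

/-- the torus point over `B'` -/
noncomputable abbrev tp (W : Type u) [CommRing W] {K : Type u} [Field K] [Algebra W K] (B' : Type u) [CommRing B'] [Algebra W B'] [Algebra K B'] [IsScalarTower W K B'] (t : TPt M K) :
    TPt M B' := TPt.map (IsScalarTower.toAlgHom W K B') t

lemma conj_hom (t : TPt M K) (x : Pt W c.A B') {m : M} {a : c.A} (ha : a ∈ gr (actG c J).coact m) :
    ((tiPt c J B' (tp W B' t))⁻¹ * x * tiPt c J B' (tp W B' t)).hom a =
      x.hom a * algebraMap K B' ((t (Multiplicative.ofAdd m))⁻¹ : Kˣ) := by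
  have h1 : (tiPt c J B' (tp W B' t))⁻¹ * x * tiPt c J B' (tp W B' t) = (actG c J).act (tp W B' t)⁻¹ x := by
    rw [actG_act, MonoidHom.map_inv, _root_.inv_inv]
  rw [h1, act_of_mem _ _ _ ha]
  rfl

/-- **(A)** -/
theorem exists_conj (φ : B →ₐ[W] B') (hφ : Function.Injective φ) (T : Submonoid (Multiplicative M)) (t : TPt M K)
    (hT : ∀ m ∈ T, ∃ w : W, algebraMap W K w = ((t m)⁻¹ : Kˣ)) (g : Pt W c.A B) (hg : Kills c J T g) :
    ∃ g' : Pt W c.A B, Pt.map φ g' = (tiPt c J B' (tp W B' t))⁻¹ * Pt.map φ g * tiPt c J B' (tp W B' t) := by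
  set zz : Pt W c.A B' := (tiPt c J B' (tp W B' t))⁻¹ * Pt.map φ g * tiPt c J B' (tp W B' t) with hzz
  have h1 : ∀ a, zz.hom a ∈ φ.range := by
    intro a
    refine induction_gr (p := fun a => zz.hom a ∈ φ.range) (actG c J).coact ?_ ?_ ?_ a
    · rw [_root_.map_zero]; exact zero_mem _
    · intro a b ha hb
      rw [_root_.map_add]
      exact add_mem ha hb
    · intro m a ha
      rw [hzz, conj_hom c J t _ ha]
      by_cases hm : Multiplicative.ofAdd m ∈ T
      · obtain ⟨w, hw⟩ := hT _ hm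
        refine ⟨g.hom a * algebraMap W B w, ?_⟩
        rw [← hw, ← IsScalarTower.algebraMap_apply]
        change φ _ = φ (g.hom a) * _
        rw [_root_.map_mul, AlgHom.commutes]
      · change φ (g.hom a) * _ ∈ _
        rw [hg m hm a ha, _root_.map_zero, zero_mul]
        exact zero_mem _
  refine ⟨Pt.mk (((AlgEquiv.ofInjective φ hφ).symm : _ →ₐ[W] _).comp (zz.hom.codRestrict _ h1)), ?_⟩
  apply Pt.ext
  intro a
  change φ ((AlgEquiv.ofInjective φ hφ).symm ⟨zz.hom a, h1 a⟩) = _
  exact congrArg Subtype.val ((AlgEquiv.ofInjective φ hφ).apply_symm_apply ⟨zz.hom a, h1 a⟩)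

/-- **(B)** -/
theorem kills_of_conj (φ : B →ₐ[W] B') (hφ : Function.Injective φ) (T : Submonoid (Multiplicative M)) (t : TPt M K)
    (ψ : B →ₐ[W] C) (hT : ∀ m ∉ T, ∃ w : W, algebraMap W C w = 0 ∧ algebraMap W K w = (t m : K)) (g g' : Pt W c.A B)
    (h : Pt.map φ g' = (tiPt c J B' (tp W B' t))⁻¹ * Pt.map φ g * tiPt c J B' (tp W B' t)) :
    Kills c J T (Pt.map ψ g) := by
  intro m hm a ha
  obtain ⟨w, hw0, hw⟩ := hT _ hm
  have h1 : φ (g'.hom a) = φ (g.hom a) * algebraMap K B' ((t (Multiplicative.ofAdd m))⁻¹ : Kˣ) := by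
    have := congrArg (fun z : Pt W c.A B' => z.hom a) h
    rw [conj_hom c J t _ ha] at this
    exact this
  have h2 : φ (g.hom a) = φ (g'.hom a * algebraMap W B w) := by
    rw [_root_.map_mul, h1, AlgHom.commutes, IsScalarTower.algebraMap_apply W K B', hw, _root_.mul_assoc,
      ← _root_.map_mul, Units.inv_mul, _root_.map_one, _root_.mul_one]
  change ψ (g.hom a) = 0
  rw [hφ h2, _root_.map_mul, AlgHom.commutes, hw0, mul_zero]

end conj

section nu

variable {W : Type u} [CommRing W] {G : Over (Spec (CommRingCat.of W))} [GrpObj G]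
  {M : Type} [AddCommGroup M] (J : Red.DS (Spec (CommRingCat.of W)) M ⟶ G) [IsMonHom J]

/-- The closed subgroup `P_T` is the dynamic subgroup of a one-parameter subgroup. -/
theorem exists_nu [IsAffineHom G.hom] [LocallyOfFiniteType G.hom] (T : Submonoid (Multiplicative M))
    (hT : ∀ F : Finset M, ∃ ν : M →+ ℤ, ∀ m ∈ F, Multiplicative.ofAdd m ∈ T ↔ 0 ≤ ν m) :
    ∃ ν : M →+ ℤ, ∀ (X : Over (Spec (CommRingCat.of W))) (g : X ⟶ G), PtT J T g ↔ PtP (lamN J ν) g := by
  classical
  let r : Spec (CommRingCat.of W) ⟶ Spec (CommRingCat.of W) := 𝟙 _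
  obtain ⟨A, _, _, e, _⟩ := Rep998.exists_chart (G := G) r
  have hft : Algebra.FiniteType W A := by
    have h1 : LocallyOfFiniteType (Spec.map (CommRingCat.ofHom (algebraMap W A))) := by
      have h2 : LocallyOfFiniteType (Red.bc r G).hom := by
        change LocallyOfFiniteType (pullback.snd G.hom r)
        infer_instance
      have h3 : e.inv.left ≫ (Red.bc r G).hom = Spec.map (CommRingCat.ofHom (algebraMap W A)) := Over.w e.inv
      rw [← h3]
      have h4 : IsIso e.inv.left := inferInstanceAs (IsIso ((Over.forget _).map e.inv))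
      have h5 : LocallyOfFiniteType e.inv.left := inferInstance
      exact MorphismProperty.comp_mem _ _ _ h5 h2
    have h2 := (HasRingHomProperty.Spec_iff (P := @LocallyOfFiniteType)).1 h1
    exact RingHom.finiteType_algebraMap.1 h2
  obtain ⟨F, hF⟩ := exists_finset J e
  obtain ⟨ν, h1⟩ := hT (F.image Multiplicative.toAdd)
  let T₁ : Submonoid (Multiplicative M) :=
    { carrier := {m | 0 ≤ ν m.toAdd}
      mul_mem' := by
        intro a b ha hb
        simp only [Set.mem_ofPred_eq, toAdd_mul, _root_.map_add] at ha hb ⊢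
        exact add_nonneg ha hb
      one_mem' := by simp }
  have e1 : ∀ m ∈ F, (m ∈ T ↔ m ∈ T₁) := fun m hm => h1 m.toAdd (Finset.mem_image_of_mem _ hm)
  have key : ∀ (C : Type u) [CommRing C] (c : Spec (CommRingCat.of C) ⟶ Spec (CommRingCat.of W))
      (g : aff C c ⟶ G), QT J C c T g ↔ LimEx (lamN J ν) g := by
    intro C _ c g
    let ψ : W →+* C := (Spec.preimage c).hom
    let _ : Algebra W C := ψ.toAlgebra
    have hc : Spec.map (CommRingCat.ofHom (algebraMap W C)) ≫ r = c := by
      rw [Category.comp_id]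
      exact Spec.map_preimage c
    obtain ⟨g, rfl⟩ := (pt_bijective e hc).2 g
    rw [qt_pt_iff, limEx_lamN_iff]
    constructor
    · intro h m hm
      exact hF T₁ C g (fun m hm hmT => h m (fun h' => hmT ((e1 m hm).1 h'))) m (not_le.2 hm)
    · intro h
      exact hF _ C g (fun m hm hmT => h m (not_le.1 fun h' => hmT ((e1 m hm).2 h')))
  refine ⟨ν, fun X g => ?_⟩
  constructor
  · intro h C _ c x
    exact (key C c (x ≫ g)).1 (h C c x)
  · intro h C _ c x
    exact (key C c (x ≫ g)).2 (h C c x)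

end nu

section aff

variable {W : Type u} [CommRing W] {G : Over (Spec (CommRingCat.of W))} [GrpObj G]
  (c : Chart G (𝟙 (Spec (CommRingCat.of W)))) {M : Type} [AddCommGroup M]
  (J : Red.DS (Spec (CommRingCat.of W)) M ⟶ G) [IsMonHom J]
variable {B C : Type u} [CommRing B] [Algebra W B] [CommRing C] [Algebra W C]

lemma ptT_iff_kills [IsAffineHom G.hom] (T : Submonoid (Multiplicative M)) (g : Pt W c.A B) :
    PtT J T (c.pts B g) ↔ Kills c J T g := by
  have h3 : PtT J T (c.pts B g) ↔ QT J B _ T (c.pts B g) := (idealCond J T).ptQ_iff _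
  rw [h3, qt_iff]
  rfl

end aff

section root

variable {W : Type u} [CommRing W] {G : Over (Spec (CommRingCat.of W))} [GrpObj G]
  (c : Chart G (𝟙 (Spec (CommRingCat.of W)))) (D : Red.SplitRed G)
variable {C : Type u} [CommRing C] [Algebra W C]

/-- If the root group of `a` is contained in `P_T`, then `a ∈ T`. -/
theorem root_mem [Nontrivial C] (T : Submonoid (Multiplicative D.M)) (a : D.idx)
    (h : Kills c (Chart.j D) T (c.uPt D a C 1)) : Multiplicative.ofAdd (D.P.root a) ∈ T := by
  by_contra hm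
  obtain ⟨f, hf⟩ := c.uPt_surj D a Polynomial.X
  have key : ∀ (E : Type u) [CommRing E] [Algebra W E] (z : E), (c.uPt D a E z).hom f = z := by
    intro E _ _ z
    have h1 := c.uPt_nat D a (Polynomial.aeval z : Polynomial W →ₐ[W] E) Polynomial.X
    rw [Polynomial.aeval_X] at h1
    rw [← h1, Pt.map_hom_apply, hf, Polynomial.aeval_X]
  have h1 : (actG c (Chart.j D)).orb (c.uPt D a C 1) =
      c.uPt D a (MA D.M C) (MonoidAlgebra.single (Multiplicative.ofAdd (D.P.root a)) 1) := by
    rw [TAct.orb, actG_act, c.uPt_nat, _root_.map_one]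
    have h2 := c.rel_iPt D a (uT D.M C) (1 : MA D.M C)
    rw [_root_.mul_one] at h2
    exact h2
  have h2 := coeff_orb (actG c (Chart.j D)) (c.uPt D a C 1) f (Multiplicative.ofAdd (D.P.root a))
  rw [h1, key, MonoidAlgebra.coeff_single, Finsupp.single_eq_same] at h2
  have h3 := h (D.P.root a) hm _ (pr_mem_gr (actG c (Chart.j D)).coact (D.P.root a) f)
  exact one_ne_zero (h2.trans h3)

end root

section val

variable {W : Type u} [CommRing W] [IsDomain W] [ValuationRing W] {K : Type u} [Field K] [Algebra W K]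
  [IsFractionRing W K] {M : Type} [AddCommGroup M] (t : TPt M K)

/-- the characters with `t(m)⁻¹ ∈ W` -/
def Tv : Submonoid (Multiplicative M) where
  carrier := {m | ∃ w : W, algebraMap W K w = ((t m)⁻¹ : Kˣ)}
  mul_mem' := by
    rintro a b ⟨w, hw⟩ ⟨w', hw'⟩
    refine ⟨w * w', ?_⟩
    rw [_root_.map_mul, hw, hw', _root_.map_mul, _root_.mul_inv, Units.val_mul]
  one_mem' := ⟨1, by simp⟩

lemma mem_Tv {m : Multiplicative M} : m ∈ Tv (W := W) t ↔ ∃ w : W, algebraMap W K w = ((t m)⁻¹ : Kˣ) := Iff.rfl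

lemma mem_Tv_iff {m : Multiplicative M} : m ∈ Tv (W := W) t ↔ 1 ≤ ValuationRing.valuation W K (t m : K) := by
  have h1 : (∃ w : W, algebraMap W K w = ((t m)⁻¹ : Kˣ)) ↔ ValuationRing.valuation W K ((t m)⁻¹ : Kˣ) ≤ 1 :=
    (ValuationRing.mem_integer_iff W K _).symm
  rw [mem_Tv, h1, Units.val_inv_eq_inv_val, map_inv₀]
  have h2 : 0 < ValuationRing.valuation W K (t m : K) := by
    rw [zero_lt_iff]
    exact (Valuation.ne_zero_iff _).2 (t m).ne_zero
  exact inv_le_one₀ h2

lemma exists_of_notMem_Tv {m : Multiplicative M} (h : m ∉ Tv (W := W) t) :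
    ∃ w ∈ IsLocalRing.maximalIdeal W, algebraMap W K w = (t m : K) := by
  rw [mem_Tv_iff, not_le] at h
  obtain ⟨w, hw⟩ := (ValuationRing.mem_integer_iff W K _).1 h.le
  refine ⟨w, ?_, hw⟩
  rw [IsLocalRing.mem_maximalIdeal, mem_nonunits_iff]
  intro hu
  obtain ⟨u, rfl⟩ := hu
  have h1 : m ∈ Tv (W := W) t := by
    refine ⟨((u⁻¹ : Wˣ) : W), ?_⟩
    rw [Units.val_inv_eq_inv_val, ← hw]
    apply eq_inv_of_mul_eq_one_left
    rw [← _root_.map_mul, Units.inv_mul, _root_.map_one]
  exact absurd h (not_lt.2 ((mem_Tv_iff t).1 h1))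

/-- signs of the valuations are the signs of a linear form -/
theorem exists_sign [AddGroup.FG M] (F : Finset M) :
    ∃ ν : M →+ ℤ, ∀ m ∈ F, Multiplicative.ofAdd m ∈ Tv (W := W) t ↔ 0 ≤ ν m := by
  classical
  let v : K →*₀ ValuationRing.ValueGroup W K := (ValuationRing.valuation W K).toMonoidWithZeroHom
  let f : M →+ Additive (ValuationRing.ValueGroup W K)ˣ :=
    MonoidHom.toAdditiveRight ((Units.map (v : K →* ValuationRing.ValueGroup W K)).comp t)
  have hf : ∀ m, Multiplicative.ofAdd m ∈ Tv (W := W) t ↔ 0 ≤ f m := by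
    intro m
    rw [mem_Tv_iff]
    rfl
  let N := f.range
  have hfg : AddGroup.FG N := AddGroup.fg_range f
  obtain ⟨ν, h1, -⟩ := Groth.Agent.K547.OrdCone.exists_nu (F.image f.rangeRestrict)
  refine ⟨ν.comp f.rangeRestrict, fun m hm => ?_⟩
  rw [hf]
  exact h1 (f.rangeRestrict m) (Finset.mem_image_of_mem _ hm)

end val

end K950.ParVal
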